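import Groth.Agent.Lib.AlgSpace.Quot
import Groth.Agent.Lib.AlgSpMor.Sep
import Groth.Agent.Lib.QfhGalois.Basic

/-!
# The equivalence relation of a free action of an abstract group
-/

set_option autoImplicit false
set_option backward.isDefEq.respectTransparency false
set_option backward.isDefEq.respectTransparency.types false

universe u

open CategoryTheory CategoryTheory.Limits AlgebraicGeometry

namespace Groth.Agent.Lib.FreeAct

variable {S : Scheme.{u}} {U : Over S} {G : Type u} {c : Cofan (fun _ : G => U)}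

/-- The underlying cofan of schemes is a coproduct. -/
noncomputable def sigmaIso (hc : IsColimit c) : (∐ fun _ : G => U.left) ≅ c.pt.left :=
  (coproductIsCoproduct _).coconePointUniqueUpToIso (isColimitCofanMkObjOfIsColimit (Over.forget S) _ c.inj (hc.ofIsoColimit (Cofan.ext (Iso.refl _))))

theorem ι_sigmaIso (hc : IsColimit c) (g : G) :
    Sigma.ι (fun _ : G => U.left) g ≫ (sigmaIso hc).hom = (c.inj g).left :=
  IsColimit.comp_coconePointUniqueUpToIso_hom (coproductIsCoproduct _)
    (isColimitCofanMkObjOfIsColimit (Over.forget S) _ c.inj (hc.ofIsoColimit (Cofan.ext (Iso.refl _)))) ⟨g⟩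

theorem isOpenImmersion_inj (hc : IsColimit c) (g : G) : IsOpenImmersion (c.inj g).left := by
  rw [← ι_sigmaIso hc g]
  infer_instance

theorem exists_inj_apply (hc : IsColimit c) (z : c.pt.left) : ∃ g y, (c.inj g).left y = z := by
  obtain ⟨w, rfl⟩ := (sigmaIso hc).hom.homeomorph.surjective z
  obtain ⟨⟨g, y⟩, rfl⟩ := (sigmaMk fun _ : G => U.left).surjective w
  refine ⟨g, y, ?_⟩
  rw [← ι_sigmaIso hc g, Scheme.Hom.comp_apply, sigmaMk_mk]
  rfl

variable {ρ : G → Aut U} {s t : c.pt ⟶ U}

theorem etale_of_inj (hc : IsColimit c) (m : c.pt ⟶ U) (h : ∀ g, IsIso (c.inj g ≫ m)) : Etale m.left := by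
  rw [← MorphismProperty.cancel_left_of_respectsIso @Etale (sigmaIso hc).hom]
  have e : (sigmaIso hc).hom ≫ m.left = Sigma.desc fun g => (c.inj g ≫ m).left :=
    Sigma.hom_ext _ _ fun g => by rw [← Category.assoc, ι_sigmaIso, Sigma.ι_desc]; rfl
  rw [e]
  refine IsZariskiLocalAtSource.sigmaDesc (P := @Etale) fun g => ?_
  have := h g
  have : IsIso ((c.inj g ≫ m).left) := inferInstanceAs (IsIso ((Over.forget S).map (c.inj g ≫ m)))
  infer_instance

theorem isFinite_of_inj [Finite G] (hc : IsColimit c) (m : c.pt ⟶ U) (h : ∀ g, IsIso (c.inj g ≫ m)) :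
    IsFinite m.left := by
  rw [← MorphismProperty.cancel_left_of_respectsIso @IsFinite (sigmaIso hc).hom]
  have e : (sigmaIso hc).hom ≫ m.left = Sigma.desc fun g => (c.inj g ≫ m).left :=
    Sigma.hom_ext _ _ fun g => by rw [← Category.assoc, ι_sigmaIso, Sigma.ι_desc]; rfl
  rw [e]
  refine QfhGalois.isFinite_sigmaDesc _ fun g => ?_
  have := h g
  have : IsIso ((c.inj g ≫ m).left) := inferInstanceAs (IsIso ((Over.forget S).map (c.inj g ≫ m)))
  infer_instance

/-- The open subscheme as a scheme over `S`. -/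
abbrev sub {T : Over S} (V : T.left.Opens) : Over S := Over.mk (V.ι ≫ T.hom)

/-- Its inclusion. -/
abbrev subι {T : Over S} (V : T.left.Opens) : sub V ⟶ T := Over.homMk V.ι rfl

/-- The open subscheme where two points of the relation lie in given components. -/
theorem exists_components (hc : IsColimit c) {T : Over S} (r r' : T ⟶ c.pt) (x : T.left) :
    ∃ (V : T.left.Opens) (g g' : G) (a a' : sub V ⟶ U), x ∈ V ∧
      a ≫ c.inj g = subι V ≫ r ∧ a' ≫ c.inj g' = subι V ≫ r' := by
  obtain ⟨g, y, hy⟩ := exists_inj_apply hc (r.left x)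
  obtain ⟨g', y', hy'⟩ := exists_inj_apply hc (r'.left x)
  have := isOpenImmersion_inj hc g
  have := isOpenImmersion_inj hc g'
  let V : T.left.Opens := r.left ⁻¹ᵁ (c.inj g).left.opensRange ⊓ r'.left ⁻¹ᵁ (c.inj g').left.opensRange
  have h1 : Set.range (V.ι ≫ r.left) ⊆ Set.range (c.inj g).left := by
    rintro _ ⟨v, rfl⟩
    exact v.2.1
  have h2 : Set.range (V.ι ≫ r'.left) ⊆ Set.range (c.inj g').left := by
    rintro _ ⟨v, rfl⟩
    exact v.2.2
  refine ⟨V, g, g', Over.homMk (IsOpenImmersion.lift (c.inj g).left _ h1) ?_,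
    Over.homMk (IsOpenImmersion.lift (c.inj g').left _ h2) ?_, ⟨⟨y, hy⟩, ⟨y', hy'⟩⟩,
    Over.OverMorphism.ext (IsOpenImmersion.lift_fac _ _ _), Over.OverMorphism.ext (IsOpenImmersion.lift_fac _ _ _)⟩
  · change _ = V.ι ≫ T.hom
    rw [← Over.w (c.inj g), ← Category.assoc, IsOpenImmersion.lift_fac, Category.assoc, Over.w r]
  · change _ = V.ι ≫ T.hom
    rw [← Over.w (c.inj g'), ← Category.assoc, IsOpenImmersion.lift_fac, Category.assoc, Over.w r']

section

variable [Group G] (φ : G →* Aut U)
  (hfree : ∀ (g : G) (x : U.left), g ≠ 1 →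
    U.left.fromSpecResidueField x ≫ (φ g).hom.left ≠ U.left.fromSpecResidueField x)
  (hs : ∀ g, c.inj g ≫ s = 𝟙 U) (ht : ∀ g, c.inj g ≫ t = (φ g).hom)

include hfree in
/-- Two elements agreeing at a point are equal. -/
theorem eq_of_comp_eq {T : Over S} (a : T ⟶ U) (x : T.left) {g g' : G} (h : a ≫ (φ g).hom = a ≫ (φ g').hom) :
    g = g' := by
  by_contra hne
  have h1 : a ≫ (φ (g'⁻¹ * g)).hom = a := by
    rw [map_mul, Aut.Aut_mul_def, map_inv, Aut.Aut_inv_def]
    change a ≫ (φ g).hom ≫ (φ g').inv = a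
    rw [← Category.assoc, h, Category.assoc, Iso.hom_inv_id, Category.comp_id]
  have h2 := congrArg (fun m => T.left.fromSpecResidueField x ≫ m.left) h1
  simp only [Over.comp_left, ← Category.assoc, ← Scheme.Hom.SpecMap_residueFieldMap_fromSpecResidueField] at h2
  let e := Spec.map (a.left.residueFieldMap x)
  have : Flat e := by
    have : RingHom.Flat (a.left.residueFieldMap x).hom := by
      letI := (a.left.residueFieldMap x).hom.toAlgebra
      rw [RingHom.Flat]
      infer_instance
    exact HasRingHomProperty.Spec_iff.2 this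
  have : Surjective e := ⟨fun p => ⟨IsLocalRing.closedPoint _, Subsingleton.elim _ _⟩⟩
  have := Flat.epi_of_flat_of_surjective e
  rw [Category.assoc, cancel_epi] at h2
  exact hfree _ (a.left x) (fun he => hne (inv_mul_eq_one.1 he).symm) h2

include hfree hs ht in
theorem injective (hc : IsColimit c) {T : Over S} (r r' : T ⟶ c.pt) (e₁ : r ≫ t = r' ≫ t) (e₂ : r ≫ s = r' ≫ s) :
    r = r' := by
  refine Over.OverMorphism.ext (Scheme.hom_ext_of_forall _ _ fun x => ?_)
  obtain ⟨V, g, g', a, a', hx, ha, ha'⟩ := exists_components hc r r' x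
  refine ⟨V, hx, ?_⟩
  obtain rfl : a = a' := by
    have e := congrArg (subι V ≫ ·) e₂
    simp only [← Category.assoc, ← ha, ← ha'] at e
    simp only [Category.assoc, hs, Category.comp_id] at e
    exact e
  obtain rfl : g = g' := eq_of_comp_eq φ hfree a ⟨x, hx⟩ (by
    have e := congrArg (subι V ≫ ·) e₁
    simp only [← Category.assoc, ← ha, ← ha'] at e
    simpa only [Category.assoc, ht] using e)
  exact congrArg (fun m => m.left) (ha.symm.trans ha')

include hfree hs ht in
theorem exists_comp (hc : IsColimit c) {T : Over S} (r r' : T ⟶ c.pt) (h : r ≫ s = r' ≫ t) :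
    ∃ r'' : T ⟶ c.pt, r'' ≫ t = r ≫ t ∧ r'' ≫ s = r' ≫ s := by
  choose V g g' a a' hx ha ha' using fun x => exists_components hc r r' x
  let f : ∀ x, sub (V x) ⟶ c.pt := fun x => a' x ≫ c.inj (g x * g' x)
  have hf : ∀ x, f x ≫ t = subι (V x) ≫ r ≫ t ∧ f x ≫ s = subι (V x) ≫ r' ≫ s := fun x => by
    have k : a x = a' x ≫ (φ (g' x)).hom := by
      have e := congrArg (subι (V x) ≫ ·) h
      simp only [← Category.assoc, ← ha, ← ha'] at e
      simpa only [Category.assoc, hs, ht, Category.comp_id] using e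
    constructor
    · simp only [f, Category.assoc, ht, ← Category.assoc (subι (V x)), ← ha, map_mul, Aut.Aut_mul_def, Iso.trans_hom]
      rw [k, Category.assoc]
    · simp only [f, Category.assoc, hs, ← Category.assoc (subι (V x)), ← ha']
  let 𝒰 : T.left.OpenCover := T.left.openCoverOfIsOpenCover V
    (.mk (TopologicalSpace.Opens.coe_inj.1 (by
      rw [TopologicalSpace.Opens.coe_iSup, TopologicalSpace.Opens.coe_top, Set.eq_univ_iff_forall]
      exact fun x => Set.mem_iUnion.2 ⟨x, hx x⟩)))
  have hglue : ∀ x y, pullback.fst (V x).ι (V y).ι ≫ (f x).left = pullback.snd _ _ ≫ (f y).left := fun x y => by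
    let W : Over S := Over.mk (pullback.fst (V x).ι (V y).ι ≫ (V x).ι ≫ T.hom)
    let p : W ⟶ sub (V x) := Over.homMk (pullback.fst _ _) rfl
    let q : W ⟶ sub (V y) := Over.homMk (pullback.snd _ _) (by
      change _ ≫ (V y).ι ≫ T.hom = _
      rw [← reassoc_of% pullback.condition (f := (V x).ι) (g := (V y).ι)]
      rfl)
    have hpq : p ≫ subι (V x) = q ≫ subι (V y) := Over.OverMorphism.ext pullback.condition
    exact congrArg (fun m => m.left) (injective φ hfree hs ht hc (p ≫ f x) (q ≫ f y)
      (by rw [Category.assoc p (f x) t, Category.assoc q (f y) t, (hf x).1, (hf y).1, reassoc_of% hpq])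
      (by rw [Category.assoc p (f x) s, Category.assoc q (f y) s, (hf x).2, (hf y).2, reassoc_of% hpq]))
  let r₀ : T.left ⟶ c.pt.left := 𝒰.glueMorphisms (fun x => (f x).left) hglue
  have hr₀ : ∀ x : T.left, (V x).ι ≫ r₀ = (f x).left := Scheme.Cover.ι_glueMorphisms 𝒰 _ hglue
  refine ⟨Over.homMk r₀ (Scheme.hom_ext_of_forall _ _ fun x => ⟨V x, hx x, ?_⟩),
    Over.OverMorphism.ext (Scheme.hom_ext_of_forall _ _ fun x => ⟨V x, hx x, ?_⟩),
    Over.OverMorphism.ext (Scheme.hom_ext_of_forall _ _ fun x => ⟨V x, hx x, ?_⟩)⟩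
  · rw [← Category.assoc, hr₀]
    exact Over.w (f x)
  · change (V x).ι ≫ r₀ ≫ t.left = (V x).ι ≫ (r ≫ t).left
    rw [← Category.assoc, hr₀]
    exact congrArg (fun m => m.left) (hf x).1
  · change (V x).ι ≫ r₀ ≫ s.left = (V x).ι ≫ (r' ≫ s).left
    rw [← Category.assoc, hr₀]
    exact congrArg (fun m => m.left) (hf x).2

include hfree hs ht in
/-- A free action gives an etale equivalence relation. -/
theorem isEtaleEqvRel (hc : IsColimit c) : AlgSp.IsEtaleEqvRel s t := by
  let σ : c.pt ⟶ c.pt := Cofan.IsColimit.desc hc fun g => (φ g).hom ≫ c.inj g⁻¹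
  have hσs : σ ≫ s = t := Cofan.IsColimit.hom_ext hc _ _ fun g => by
    rw [← Category.assoc, Cofan.IsColimit.fac, Category.assoc, hs, Category.comp_id, ht]
  have hσt : σ ≫ t = s := Cofan.IsColimit.hom_ext hc _ _ fun g => by
    rw [← Category.assoc, Cofan.IsColimit.fac, Category.assoc, ht, hs, map_inv, Aut.Aut_inv_def]
    exact Iso.hom_inv_id _
  have he : (φ 1).hom = 𝟙 U := by rw [map_one]; rfl
  refine { injective := fun T r r' => injective φ hfree hs ht hc r r', equivalence := fun T => ⟨?_, ?_, ?_⟩,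
           etale_left := ?_, etale_right := ?_ }
  · exact fun a => ⟨a ≫ c.inj 1, by rw [Category.assoc, ht, he, Category.comp_id],
      by rw [Category.assoc, hs, Category.comp_id]⟩
  · rintro a b ⟨r, rfl, rfl⟩
    exact ⟨r ≫ σ, by rw [Category.assoc, hσt], by rw [Category.assoc, hσs]⟩
  · rintro a b d ⟨r, rfl, hr⟩ ⟨r', rfl, rfl⟩
    exact exists_comp φ hfree hs ht hc r r' hr
  · exact etale_of_inj hc s fun g => by rw [hs]; infer_instance
  · exact etale_of_inj hc t fun g => by rw [ht]; infer_instance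

include hfree hs ht in
theorem separation_quot [Finite G] (hc : IsColimit c) :
    (QuasiSeparated U.hom → AlgSp.IsQuasiSeparatedSp (QuotSh.quot Scheme.fppfPrecoverage s t)) ∧
      (IsSeparated U.hom → AlgSp.IsSeparatedSp (QuotSh.quot Scheme.fppfPrecoverage s t)) := by
  have h := isEtaleEqvRel φ hfree hs ht hc
  have hfin : IsFinite s.left := isFinite_of_inj hc s fun g => by rw [hs]; infer_instance
  have sq := Lib.AlgSpace.isPullback_quot h.toIsEqvRel
  have hd := Lib.AlgSpace.representable_diag_quot h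
  have hp := Lib.AlgSpace.isPresentation_quot h
  let m : c.pt.left ⟶ pullback U.hom U.hom :=
    pullback.lift t.left s.left ((Over.w t).trans (Over.w s).symm)
  have hm : (prod.lift t s).left ≫ (Over.prodLeftIsoPullback U U).hom = m := by
    refine pullback.hom_ext ?_ ?_
    · rw [Category.assoc, Over.prodLeftIsoPullback_hom_fst, ← Over.comp_left, prod.lift_fst, pullback.lift_fst]
    · rw [Category.assoc, Over.prodLeftIsoPullback_hom_snd, ← Over.comp_left, prod.lift_snd, pullback.lift_snd]
  have hms : m ≫ pullback.snd U.hom U.hom = s.left := pullback.lift_snd _ _ _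
  constructor
  · intro hq
    haveI : MorphismProperty.IsLocalAtTarget @QuasiCompact.{u} Scheme.fppfPrecoverage :=
      Lib.AlgSpace.isLocalAtTarget_fppf_quasiCompact
    refine Lib.AlgSpace.repWith_diag_of_atlas hd hp.etale hp.surjective sq @QuasiCompact ?_
    rw [← MorphismProperty.cancel_right_of_respectsIso @QuasiCompact _ (Over.prodLeftIsoPullback U U).hom, hm]
    have : QuasiCompact (m ≫ pullback.snd U.hom U.hom) := by rw [hms]; infer_instance
    exact QuasiCompact.of_comp m (pullback.snd U.hom U.hom)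
  · intro hq
    haveI : MorphismProperty.IsLocalAtTarget @IsClosedImmersion.{u} Scheme.fppfPrecoverage :=
      Lib.AlgSpMor.Sep.isLocalAtTarget_fppf_isClosedImmersion
    refine Lib.AlgSpace.repWith_diag_of_atlas hd hp.etale hp.surjective sq @IsClosedImmersion ?_
    rw [← MorphismProperty.cancel_right_of_respectsIso @IsClosedImmersion _ (Over.prodLeftIsoPullback U U).hom, hm]
    have : IsFinite (m ≫ pullback.snd U.hom U.hom) := by rw [hms]; exact hfin
    have : IsFinite m := IsFinite.of_comp m (pullback.snd U.hom U.hom)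
    have : Mono m := ⟨fun {W} a b hab => by
      have w1 := congrArg (· ≫ pullback.fst U.hom U.hom) hab
      have w2 := congrArg (· ≫ pullback.snd U.hom U.hom) hab
      simp only [m, Category.assoc, pullback.lift_fst, pullback.lift_snd] at w1 w2
      have wS : a ≫ c.pt.hom = b ≫ c.pt.hom := by rw [← Over.w s, reassoc_of% w2]
      exact congrArg (fun k => k.left) (h.injective (Over.mk (a ≫ c.pt.hom)) (Over.homMk a rfl)
        (Over.homMk b wS.symm) (Over.OverMorphism.ext w1) (Over.OverMorphism.ext w2))⟩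
    exact (IsClosedImmersion.iff_isFinite_and_mono m).2 ⟨inferInstance, inferInstance⟩

end

end Groth.Agent.Lib.FreeAct
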